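import Groth.Prelude.Def_CohB1
import Groth.Agent.H11Proj.ProjSpace
import Groth.Agent.H11Sym.BundleCoprod
import Groth.Agent.LeadChow.SegreBase
import Groth.Agent.H27Weil.Geometry

/-!
# Finite disjoint unions of projective schemes are projective
-/

set_option autoImplicit false
set_option linter.style.haveILetI false
set_option backward.isDefEq.respectTransparency false
set_option backward.isDefEq.respectTransparency.types false

universe u

open CategoryTheory CategoryTheory.Limits AlgebraicGeometry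
open HomogeneousLocalization MvPolynomial CohB1

namespace Groth.Agent.H17.QuotRel

noncomputable section

open H11Proj.ProjSpace

/-- The coordinate sections of projective space. -/
theorem exists_coord_section (n : ℕ) (R : Type u) [CommRing R] (i j : Fin (n + 1)) (hij : j ≠ i) :
    ∃ s : Spec (CommRingCat.of R) ⟶ ProjSpace n R, s ≫ ProjSpace.toSpec n R = 𝟙 _ ∧
      ∀ x, s x ∈ Proj.basicOpen (polyGrading n R) (X i) ∧ s x ∉ Proj.basicOpen (polyGrading n R) (X j) := by
  let v := (MvPolynomial.eval (fun _ : {k : Fin (n + 1) // k ≠ i} => (0 : R))).comp (chartInv n R i)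
  let a := Proj.awayι (polyGrading n R) (X i) (X_mem n R i) one_pos
  refine ⟨Spec.map (CommRingCat.ofHom v) ≫ a, ?_, fun x => ⟨?_, fun h => ?_⟩⟩
  · rw [Category.assoc]
    erw [awayι_toSpec]
    rw [← Spec.map_comp, ← Spec.map_id]
    congr 1
    refine CommRingCat.hom_ext (RingHom.ext fun r => ?_)
    have h1 := RingHom.congr_fun (chartInv_awayProjHom n R i) (C r)
    rw [← chartMap_comp_dehom] at h1
    simp [dehom] at h1
    simp [v, h1]
  · rw [← Proj.opensRange_awayι (polyGrading n R) (X i) (X_mem n R i) one_pos]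
    exact Set.mem_range_self (f := a) _
  · have h' : (Spec.map (CommRingCat.ofHom v)) x ∈
        a ⁻¹ᵁ Proj.basicOpen (polyGrading n R) (X j) := h
    rw [Proj.awayι_preimage_basicOpen (polyGrading n R) (X_mem n R i) one_pos (X_mem n R j) one_pos] at h'
    have h0 : v (Away.isLocalizationElem (X_mem n R i) (X_mem n R j)) = 0 := by
      show MvPolynomial.eval _ (chartInv n R i _) = 0
      rw [chartInv_mk]
      simp [dehom, hij]
    change v (Away.isLocalizationElem (X_mem n R i) (X_mem n R j)) ∉ x.asIdeal at h'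
    rw [h0] at h'
    exact h' x.asIdeal.zero_mem

/-- Two disjoint sections of the projective line. -/
theorem exists_two_sections (S : Scheme.{u}) :
    ∃ σ₀ σ₁ : S ⟶ ProjSpaceOver 1 S, σ₀ ≫ ProjSpaceOver.toBase 1 S = 𝟙 S ∧
      σ₁ ≫ ProjSpaceOver.toBase 1 S = 𝟙 S ∧ ∀ a b, σ₀ a ≠ σ₁ b := by
  obtain ⟨s₀, hs₀, h₀⟩ := exists_coord_section 1 (ULift.{u} ℤ) 0 1 (by decide)
  obtain ⟨s₁, hs₁, h₁⟩ := exists_coord_section 1 (ULift.{u} ℤ) 1 0 (by decide)
  let t := specULiftZIsTerminal.from S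
  refine ⟨pullback.lift (t ≫ s₀) (𝟙 S) (specULiftZIsTerminal.hom_ext _ _),
    pullback.lift (t ≫ s₁) (𝟙 S) (specULiftZIsTerminal.hom_ext _ _),
    pullback.lift_snd _ _ _, pullback.lift_snd _ _ _, fun a b h => ?_⟩
  have h' := congrArg (pullback.fst (ProjSpace.toSpec 1 (ULift.{u} ℤ)) t) h
  replace h' : (pullback.lift (t ≫ s₀) (𝟙 S) (specULiftZIsTerminal.hom_ext _ _) ≫
      pullback.fst (ProjSpace.toSpec 1 (ULift.{u} ℤ)) t) a =
    (pullback.lift (t ≫ s₁) (𝟙 S) (specULiftZIsTerminal.hom_ext _ _) ≫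
      pullback.fst (ProjSpace.toSpec 1 (ULift.{u} ℤ)) t) b := h'
  rw [pullback.lift_fst, pullback.lift_fst, Scheme.Hom.comp_apply, Scheme.Hom.comp_apply] at h'
  exact (h₁ (t b)).2 (h' ▸ (h₀ (t a)).1)

/-- Two projective schemes embed in one projective space with disjoint images. -/
theorem exists_closed_coprod {A B S : Scheme.{u}} {m n : ℕ} (a : A ⟶ ProjSpaceOver m S) [IsClosedImmersion a]
    (b : B ⟶ ProjSpaceOver n S) [IsClosedImmersion b] :
    ∃ (N : ℕ) (c : A ⨿ B ⟶ ProjSpaceOver N S), IsClosedImmersion c ∧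
      coprod.inl ≫ c ≫ ProjSpaceOver.toBase N S = a ≫ ProjSpaceOver.toBase m S ∧
      coprod.inr ≫ c ≫ ProjSpaceOver.toBase N S = b ≫ ProjSpaceOver.toBase n S := by
  let bm := ProjSpaceOver.toBase m S
  let bn := ProjSpaceOver.toBase n S
  let b1 := ProjSpaceOver.toBase 1 S
  haveI : IsProper bm := H27Weil.isProper_toBase m S
  haveI : IsProper bn := H27Weil.isProper_toBase n S
  haveI : IsProper b1 := H27Weil.isProper_toBase 1 S
  obtain ⟨σn, hσn⟩ : ∃ σ : S ⟶ ProjSpaceOver n S, σ ≫ bn = 𝟙 S := by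
    obtain ⟨s, -⟩ := H11Proj.ProjSpace.exists_section n (ULift.{u} ℤ)
    exact ⟨pullback.lift (specULiftZIsTerminal.from S ≫ s) (𝟙 S) (specULiftZIsTerminal.hom_ext _ _),
      pullback.lift_snd _ _ _⟩
  obtain ⟨σm, hσm⟩ : ∃ σ : S ⟶ ProjSpaceOver m S, σ ≫ bm = 𝟙 S := by
    obtain ⟨s, -⟩ := H11Proj.ProjSpace.exists_section m (ULift.{u} ℤ)
    exact ⟨pullback.lift (specULiftZIsTerminal.from S ≫ s) (𝟙 S) (specULiftZIsTerminal.hom_ext _ _),
      pullback.lift_snd _ _ _⟩
  obtain ⟨φ, hφ, hφw⟩ := LeadChow.Segre.exists_segre S m n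
  obtain ⟨σ₀, σ₁, h₀, h₁, hd⟩ := exists_two_sections S
  obtain ⟨ψ, hψ, hψw⟩ := LeadChow.Segre.exists_segre S (m * n + m + n) 1
  let bN := ProjSpaceOver.toBase (m * n + m + n) S
  let A1 : A ⟶ pullback bm bn := pullback.lift a (a ≫ bm ≫ σn) (by simp [hσn])
  let B1 : B ⟶ pullback bm bn := pullback.lift (b ≫ bn ≫ σm) b (by simp [hσm])
  haveI : IsClosedImmersion A1 := by
    haveI : IsClosedImmersion (A1 ≫ pullback.fst bm bn) := by rw [pullback.lift_fst]; infer_instance
    exact IsClosedImmersion.of_comp A1 (pullback.fst bm bn)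
  haveI : IsClosedImmersion B1 := by
    haveI : IsClosedImmersion (B1 ≫ pullback.snd bm bn) := by rw [pullback.lift_snd]; infer_instance
    exact IsClosedImmersion.of_comp B1 (pullback.snd bm bn)
  have hA : (A1 ≫ φ) ≫ bN = a ≫ bm := by
    rw [Category.assoc, hφw, pullback.lift_fst_assoc]
  have hB : (B1 ≫ φ) ≫ bN = b ≫ bn := by
    rw [Category.assoc, hφw, pullback.lift_fst_assoc, Category.assoc, Category.assoc, hσm, Category.comp_id]
  let A2 : A ⟶ pullback bN b1 := pullback.lift (A1 ≫ φ) ((a ≫ bm) ≫ σ₀) (by rw [hA, Category.assoc, h₀, Category.comp_id])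
  let B2 : B ⟶ pullback bN b1 := pullback.lift (B1 ≫ φ) ((b ≫ bn) ≫ σ₁) (by rw [hB, Category.assoc, h₁, Category.comp_id])
  haveI : IsClosedImmersion A2 := by
    haveI : IsClosedImmersion (A2 ≫ pullback.fst bN b1) := by rw [pullback.lift_fst]; infer_instance
    exact IsClosedImmersion.of_comp A2 (pullback.fst bN b1)
  haveI : IsClosedImmersion B2 := by
    haveI : IsClosedImmersion (B2 ≫ pullback.fst bN b1) := by rw [pullback.lift_fst]; infer_instance
    exact IsClosedImmersion.of_comp B2 (pullback.fst bN b1)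
  have hdisj : ∀ x y, A2 x ≠ B2 y := fun x y h => by
    have h' := congrArg (pullback.snd bN b1) h
    rw [← Scheme.Hom.comp_apply, ← Scheme.Hom.comp_apply, pullback.lift_snd, pullback.lift_snd,
      Scheme.Hom.comp_apply, Scheme.Hom.comp_apply] at h'
    exact hd _ _ h'
  haveI := H11Sym.BundleCoprod.isClosedImmersion_desc A2 B2 hdisj
  refine ⟨_, coprod.desc A2 B2 ≫ ψ, inferInstance, ?_, ?_⟩
  · rw [Category.assoc, hψw, coprod.inl_desc_assoc, pullback.lift_fst_assoc]
    exact hA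
  · rw [Category.assoc, hψw, coprod.inr_desc_assoc, pullback.lift_fst_assoc]
    exact hB

/-- Being a projective scheme over the base, for an open of a scheme over it. -/
def IsProjOpen {H S : Scheme.{u}} (f : H ⟶ S) (W : H.Opens) : Prop :=
  ∃ (N : ℕ) (c : W.toScheme ⟶ ProjSpaceOver N S), IsClosedImmersion c ∧
    c ≫ ProjSpaceOver.toBase N S = W.ι ≫ f

theorem isProjOpen_bot {H S : Scheme.{u}} (f : H ⟶ S) : IsProjOpen f ⊥ := by
  haveI : IsEmpty ↥(⊥ : H.Opens).toScheme := ⟨fun x => x.2⟩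
  obtain ⟨s, -⟩ := H11Proj.ProjSpace.exists_section 0 (ULift.{u} ℤ)
  refine ⟨0, pullback.lift (specULiftZIsTerminal.from _ ≫ s) ((⊥ : H.Opens).ι ≫ f)
    (specULiftZIsTerminal.hom_ext _ _), ?_, pullback.lift_snd _ _ _⟩
  exact IsClosedImmersion.iff_isProper_and_mono _ |>.2 ⟨inferInstance, inferInstance⟩

theorem IsProjOpen.sup {H S : Scheme.{u}} {f : H ⟶ S} {V W : H.Opens} (hV : IsProjOpen f V)
    (hW : IsProjOpen f W) (hd : Disjoint V W) : IsProjOpen f (V ⊔ W) := by
  obtain ⟨m, a, _, ha⟩ := hV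
  obtain ⟨n, b, _, hb⟩ := hW
  obtain ⟨N, c, _, hl, hr⟩ := exists_closed_coprod a b
  let i : V.toScheme ⟶ (V ⊔ W).toScheme := H.homOfLE le_sup_left
  let j : W.toScheme ⟶ (V ⊔ W).toScheme := H.homOfLE le_sup_right
  have hc : IsCompl i.opensRange j.opensRange := by
    rw [Scheme.opensRange_homOfLE, Scheme.opensRange_homOfLE]
    refine ⟨disjoint_iff.2 (le_bot_iff.1 fun x hx => ?_), codisjoint_iff.2 (top_le_iff.1 fun x _ => ?_)⟩
    · exact hd.le_bot (show (V ⊔ W).ι x ∈ V ⊓ W from hx)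
    · exact x.2
  obtain ⟨hcl⟩ := AlgebraicGeometry.nonempty_isColimit_binaryCofanMk_of_isCompl i j hc
  let e : V.toScheme ⨿ W.toScheme ≅ (V ⊔ W).toScheme := (colimit.isColimit _).coconePointUniqueUpToIso hcl
  have hi : coprod.inl ≫ e.hom = i := colimit.comp_coconePointUniqueUpToIso_hom hcl ⟨WalkingPair.left⟩
  have hj : coprod.inr ≫ e.hom = j := colimit.comp_coconePointUniqueUpToIso_hom hcl ⟨WalkingPair.right⟩
  refine ⟨N, e.inv ≫ c, inferInstance, ?_⟩
  rw [Category.assoc, Iso.inv_comp_eq]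
  apply coprod.hom_ext
  · rw [hl, ha, reassoc_of% hi, Scheme.homOfLE_ι_assoc]
  · rw [hr, hb, reassoc_of% hj, Scheme.homOfLE_ι_assoc]

theorem IsProjOpen.of_iso_range {P H S : Scheme.{u}} {f : H ⟶ S} (i : P ⟶ H) [IsOpenImmersion i] {N : ℕ}
    (c : P ⟶ ProjSpaceOver N S) [IsClosedImmersion c] (hc : c ≫ ProjSpaceOver.toBase N S = i ≫ f) :
    IsProjOpen f i.opensRange := by
  refine ⟨N, i.isoOpensRange.inv ≫ c, inferInstance, ?_⟩
  rw [Category.assoc, hc, Scheme.Hom.isoOpensRange_inv_comp_assoc]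

/-- A compact set of a disjoint union of projective schemes lies in a projective open. -/
theorem exists_projOpen {H : Scheme.{u}} {S : Scheme.{u}} {f : H ⟶ S} {ι : Type u} {P : ι → Scheme.{u}}
    (e : (∐ P) ≅ H) (r : ι → ℕ) (c : ∀ a, P a ⟶ ProjSpaceOver (r a) S)
    (hc : ∀ a, IsClosedImmersion (c a) ∧
      c a ≫ ProjSpaceOver.toBase (r a) S = Limits.Sigma.ι P a ≫ e.hom ≫ f)
    {K : Set H} (hK : IsCompact K) : ∃ W : H.Opens, K ⊆ W ∧ IsProjOpen f W := by
  classical
  let V : ι → H.Opens := fun a => (Sigma.ι P a ≫ e.hom).opensRange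
  have hV : ∀ a, IsProjOpen f (V a) := fun a => by
    haveI := (hc a).1
    exact IsProjOpen.of_iso_range (Sigma.ι P a ≫ e.hom) (c a) (by rw [(hc a).2, Category.assoc])
  have hdis : ∀ a b, a ≠ b → Disjoint (V a) (V b) := fun a b hab => disjoint_iff.2 (le_bot_iff.1 fun x hx => by
    obtain ⟨⟨y, hy⟩, ⟨z, hz⟩⟩ := hx
    rw [Scheme.Hom.comp_apply] at hy hz
    have h := e.hom.homeomorph.injective (hy.trans hz.symm)
    exact hab (congrArg Sigma.fst ((sigmaι_eq_iff (g := P) a b y z).1 h)))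
  have key : ∀ s : Finset ι, IsProjOpen f (s.sup V) := fun s => by
    induction s using Finset.induction_on with
    | empty => exact isProjOpen_bot f
    | @insert a s ha ih =>
      rw [Finset.sup_insert]
      exact (hV a).sup ih (Finset.disjoint_sup_right.2 fun b hb => hdis a b fun h => ha (h ▸ hb))
  obtain ⟨s, hs⟩ := hK.elim_finite_subcover (fun a => ((V a : H.Opens) : Set H)) (fun a => (V a).2) fun x _ => by
    obtain ⟨a, y, hy⟩ := (sigmaOpenCover P).exists_eq (e.inv x)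
    refine Set.mem_iUnion.2 ⟨a, y, ?_⟩
    rw [Scheme.Hom.comp_apply]
    show e.hom ((Sigma.ι P a) y) = x
    rw [show (Sigma.ι P a) y = e.inv x from hy, ← Scheme.Hom.comp_apply, Iso.inv_hom_id]
    rfl
  refine ⟨s.sup V, fun x hx => ?_, key s⟩
  obtain ⟨a, ha, hxa⟩ := Set.mem_iUnion₂.1 (hs hx)
  exact (Finset.le_sup ha : V a ≤ s.sup V) hxa

end

end Groth.Agent.H17.QuotRel
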